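import Groth.Agent.CubeLib.Cube
import Groth.Agent.AVLib.SeesawBase

/-!
# The theorem of the cube over a locally Noetherian base
-/

set_option autoImplicit false
set_option backward.isDefEq.respectTransparency false
set_option linter.style.haveILetI false

universe u

open CategoryTheory CategoryTheory.Limits AlgebraicGeometry TopologicalSpace
open Groth.Agent.AmpleLib Groth.Agent.CubeLib Groth.Agent.PullbackMod Groth.Agent.ParaFLib

noncomputable section

namespace Groth.Agent.CubeBaseLib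

/-- A composite of geometrically integral morphisms. -/
theorem geometricallyIntegral_comp {X Y S : Scheme.{u}} (f : X ⟶ Y) (g : Y ⟶ S)
    [GeometricallyIntegral f] [Flat f] [UniversallyOpen f] [GeometricallyIntegral g] [LocallyOfFiniteType g] :
    GeometricallyIntegral (f ≫ g) := by
  refine ⟨fun L _ y Z fst' snd' H => ?_⟩
  haveI : IsIntegral (pullback g y) :=
    GeometricallyIntegral.geometrically_isIntegral _ _ _ (IsPullback.of_hasPullback g y)
  haveI : IsLocallyNoetherian (pullback g y) := LocallyOfFiniteType.isLocallyNoetherian (pullback.snd g y)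
  haveI : IsIntegral (pullback f (pullback.fst g y)) := inferInstance
  have e := ((IsPullback.of_hasPullback f (pullback.fst g y)).paste_vert (IsPullback.of_hasPullback g y))
  exact .of_isIso ((e.isoIsPullback _ _ H).hom)

variable {S X Y : Scheme.{u}} (fX : X ⟶ S) (fY : Y ⟶ S) [IsProper fX] [Flat fX] [GeometricallyIntegral fX]
  [IsProper fY] [Flat fY] [GeometricallyIntegral fY] [IsLocallyNoetherian S]

instance geometricallyIntegral_struct : GeometricallyIntegral (pullback.fst fX fY ≫ fX) := by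
  haveI : IsLocallyNoetherian X := LocallyOfFiniteType.isLocallyNoetherian fX
  haveI : GeometricallyIntegral (pullback.fst fX fY) := MorphismProperty.pullback_fst fX fY inferInstance
  exact geometricallyIntegral_comp _ _

/-- The cube near a closed point of an affine open of the base. -/
theorem exists_gen_nhd_of_maximal {W : S.Opens} (hW : IsAffineOpen W) (q : Spec Γ(S, W)) [q.asIdeal.IsMaximal]
    (x : S ⟶ X) (hx : x ≫ fX = 𝟙 S) (y : S ⟶ Y) (hy : y ≫ fY = 𝟙 S)
    (σ : Y ⟶ pullback fX fY) (hσ₁ : σ ≫ pullback.fst fX fY = fY ≫ x) (hσ₂ : σ ≫ pullback.snd fX fY = 𝟙 Y)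
    (τ : X ⟶ pullback fX fY) (hτ₁ : τ ≫ pullback.fst fX fY = 𝟙 X) (hτ₂ : τ ≫ pullback.snd fX fY = fX ≫ y)
    {L : (pullback fX fY).Modules} (hL : PicF.IsInvertible L)
    (hσ : Triv ((Scheme.Modules.pullback σ).obj L)) (hτ : Triv ((Scheme.Modules.pullback τ).obj L))
    (hfib : Triv ((Scheme.Modules.pullback ((pullback.fst fX fY ≫ fX).fiberι (hW.fromSpec q))).obj L)) :
    ∃ U : S.Opens, hW.fromSpec q ∈ U ∧
      ∃ s : Γ(L, (pullback.fst fX fY ≫ fX) ⁻¹ᵁ U), Gen ((pullback.fst fX fY ≫ fX) ⁻¹ᵁ U) s := by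
  haveI : IsNoetherianRing Γ(S, W) := IsLocallyNoetherian.component_noetherian ⟨W, hW⟩
  refine exists_gen_nhd_of_quot (pullback.fst fX fY ≫ fX) hW q hL fun n => ?_
  let f := pullback.fst fX fY ≫ fX
  let B := CommRingCat.of (Γ(S, W) ⧸ q.asIdeal ^ (n + 1))
  obtain ⟨hB1, hB2⟩ := CubeLib.isArtinianRing_quot_pow q.asIdeal n
  haveI : IsArtinianRing B := hB1
  haveI : IsLocalRing B := hB2
  letI : Field (Γ(S, W) ⧸ q.asIdeal) := Ideal.Quotient.field _
  let mk : Γ(S, W) ⟶ B := CommRingCat.ofHom (Ideal.Quotient.mk (q.asIdeal ^ (n + 1)))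
  let j : Spec B ⟶ S := Spec.map mk ≫ hW.fromSpec
  let φ₀ : B ⟶ CommRingCat.of (Γ(S, W) ⧸ q.asIdeal) :=
    CommRingCat.ofHom (Ideal.Quotient.factor (Ideal.pow_le_self (Nat.succ_ne_zero n)))
  have hφ₀ : Function.Surjective φ₀.hom := Ideal.Quotient.factor_surjective (Ideal.pow_le_self (Nat.succ_ne_zero n))
  have hpt : ∀ w, (Spec.map φ₀ ≫ j) w = hW.fromSpec q := fun w => by
    simp only [j, ← Category.assoc, ← Spec.map_comp]
    rw [Scheme.Hom.comp_apply]
    congr 1
    refine PrimeSpectrum.ext ?_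
    show Ideal.comap (Ideal.Quotient.mk q.asIdeal) w.asIdeal = q.asIdeal
    rw [Ideal.eq_bot_of_prime w.asIdeal]
    exact Ideal.mk_ker
  let gX := pullback.fst fX j
  let gY := pullback.fst fY j
  let fX' := pullback.snd fX j
  let fY' := pullback.snd fY j
  haveI : Flat fX' := MorphismProperty.pullback_snd _ _ inferInstance
  haveI : Flat fY' := MorphismProperty.pullback_snd _ _ inferInstance
  haveI : IsProper fX' := MorphismProperty.pullback_snd _ _ inferInstance
  haveI : IsProper fY' := MorphismProperty.pullback_snd _ _ inferInstance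
  haveI : GeometricallyIntegral fX' := MorphismProperty.pullback_snd _ _ inferInstance
  haveI : GeometricallyIntegral fY' := MorphismProperty.pullback_snd _ _ inferInstance
  let p := pullback.fst fX' fY'
  let r := pullback.snd fX' fY'
  have hP : IsPullback p r fX' fY' := IsPullback.of_hasPullback _ _
  have hconst : ∀ {Z : Scheme.{u}} (g : Z ⟶ Spec B) [IsProper g] [GeometricallyIntegral g],
      IsConst (pullback.snd g (Spec.map φ₀)) := by
    intro Z g _ _
    haveI : IsProper (pullback.snd g (Spec.map φ₀)) := MorphismProperty.pullback_snd _ _ inferInstance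
    haveI : GeometricallyIntegral (pullback.snd g (Spec.map φ₀)) := MorphismProperty.pullback_snd _ _ inferInstance
    intro F
    obtain ⟨c, hc⟩ := (AVLib.bijective_appTop (pullback.snd g (Spec.map φ₀))).2 F
    refine ⟨c, Eq.trans ?_ hc⟩
    rw [BCLib.secHom, show (homOfLE (le_top : (⊤ : (pullback g (Spec.map φ₀)).Opens) ≤ ⊤)) = 𝟙 _ from rfl, op_id,
      (pullback g (Spec.map φ₀)).presheaf.map_id, Category.comp_id]
  let m : pullback fX' fY' ⟶ pullback fX fY := pullback.lift (p ≫ gX) (r ≫ gY) (by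
    rw [Category.assoc, Category.assoc, pullback.condition, pullback.condition, ← Category.assoc, hP.w,
      Category.assoc])
  let x' : Spec B ⟶ pullback fX j := pullback.lift (j ≫ x) (𝟙 _) (by rw [Category.assoc, hx, Category.comp_id, Category.id_comp])
  let y' : Spec B ⟶ pullback fY j := pullback.lift (j ≫ y) (𝟙 _) (by rw [Category.assoc, hy, Category.comp_id, Category.id_comp])
  have hx' : x' ≫ fX' = 𝟙 _ := pullback.lift_snd _ _ _
  have hy' : y' ≫ fY' = 𝟙 _ := pullback.lift_snd _ _ _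
  let s : pullback fY j ⟶ pullback fX' fY' := pullback.lift (fY' ≫ x') (𝟙 _) (by
    rw [Category.assoc, hx', Category.comp_id, Category.id_comp])
  let t : pullback fX j ⟶ pullback fX' fY' := pullback.lift (𝟙 _) (fX' ≫ y') (by
    rw [Category.assoc, hy', Category.comp_id, Category.id_comp])
  have hsm : gY ≫ σ = s ≫ m := by
    apply pullback.hom_ext
    · simp only [m, p, gX, s, x', Category.assoc, hσ₁, pullback.lift_fst, pullback.lift_fst_assoc, fY', gY]
      rw [← Category.assoc, pullback.condition, Category.assoc]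
    · simp only [m, r, gY, s, Category.assoc, hσ₂, pullback.lift_snd, pullback.lift_snd_assoc, Category.comp_id]
      rw [Category.id_comp]
  have htm : gX ≫ τ = t ≫ m := by
    apply pullback.hom_ext
    · simp only [m, p, gX, t, Category.assoc, hτ₁, pullback.lift_fst, pullback.lift_fst_assoc, Category.comp_id]
      rw [Category.id_comp]
    · simp only [m, r, gY, t, y', Category.assoc, hτ₂, pullback.lift_snd, pullback.lift_snd_assoc, pullback.lift_fst,
        fX', gX]
      rw [← Category.assoc, pullback.condition, Category.assoc]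
  have hm : m ≫ f = (r ≫ fY') ≫ j := by
    show m ≫ pullback.fst fX fY ≫ fX = _
    rw [← Category.assoc m, pullback.lift_fst, Category.assoc, pullback.condition, ← Category.assoc, hP.w]
  let g₀ := pullback.fst (r ≫ fY') (Spec.map φ₀)
  have hT : Triv ((Scheme.Modules.pullback m).obj L) := by
    refine triv_artin (φ₀ := φ₀) hφ₀ hP (IsPullback.of_hasPullback fX' (Spec.map φ₀))
      (IsPullback.of_hasPullback fY' (Spec.map φ₀)) (IsPullback.of_hasPullback _ (Spec.map φ₀)) (hconst fX') (hconst fY')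
      x' hx' y' hy' s (pullback.lift_fst _ _ _) (pullback.lift_snd _ _ _) t (pullback.lift_fst _ _ _)
      (pullback.lift_snd _ _ _) _ (isInvertible_pullback _ hL) ?_ ?_ ?_
    · exact (triv_pullback_comp_iff s m rfl).2
        ((triv_pullback_comp_iff gY σ hsm).1 (hσ.pullback gY (isInvertible_pullback _ hL)))
    · exact (triv_pullback_comp_iff t m rfl).2
        ((triv_pullback_comp_iff gX τ htm).1 (hτ.pullback gX (isInvertible_pullback _ hL)))
    · let e := Spec.map (S.descResidueField (Scheme.stalkClosedPointTo (Spec.map φ₀ ≫ j)))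
      let w₀ : Spec (CommRingCat.of (Γ(S, W) ⧸ q.asIdeal)) := IsLocalRing.closedPoint (Γ(S, W) ⧸ q.asIdeal)
      have he : e ≫ S.fromSpecResidueField ((Spec.map φ₀ ≫ j) w₀) = Spec.map φ₀ ≫ j :=
        S.descResidueField_stalkClosedPointTo_fromSpecResidueField _ _
      let e' := e ≫ Spec.map (S.residueFieldCongr (hpt w₀).symm).hom
      have he' : e' ≫ S.fromSpecResidueField (hW.fromSpec q) = Spec.map φ₀ ≫ j := by
        rw [Category.assoc, Scheme.residueFieldCongr_fromSpecResidueField, he]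
      let l : pullback (r ≫ fY') (Spec.map φ₀) ⟶ f.fiber (hW.fromSpec q) :=
        pullback.lift (g₀ ≫ m) (pullback.snd _ _ ≫ e') (by
          rw [Category.assoc, Category.assoc, he', hm, ← Category.assoc g₀, pullback.condition, Category.assoc])
      exact (triv_pullback_comp_iff g₀ m rfl).2 ((triv_pullback_comp_iff l (f.fiberι (hW.fromSpec q))
        (pullback.lift_fst _ _ _)).1 (hfib.pullback l (isInvertible_pullback _ hL)))
  let u₁ : pullback f j ⟶ pullback fX j := pullback.lift (pullback.fst f j ≫ pullback.fst fX fY) (pullback.snd f j) (by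
    rw [Category.assoc]; exact pullback.condition)
  let u₂ : pullback f j ⟶ pullback fY j := pullback.lift (pullback.fst f j ≫ pullback.snd fX fY) (pullback.snd f j) (by
    rw [Category.assoc, ← pullback.condition (f := fX)]; exact pullback.condition)
  let u : pullback f j ⟶ pullback fX' fY' := pullback.lift u₁ u₂ (by rw [pullback.lift_snd, pullback.lift_snd])
  have hu : u ≫ m = pullback.fst f j := by
    apply pullback.hom_ext
    · simp only [m, p, gX, u, u₁, Category.assoc, pullback.lift_fst, pullback.lift_fst_assoc]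
    · simp only [m, r, gY, u, u₂, Category.assoc, pullback.lift_fst, pullback.lift_snd, pullback.lift_snd_assoc]
  exact (triv_pullback_comp_iff u m hu).1 (hT.pullback u (isInvertible_pullback _ hL))

/-- The set of points with trivial fibre is closed. -/
theorem isClosed_setOf_triv {P : Scheme.{u}} (f : P ⟶ S) [IsProper f] [Flat f] [GeometricallyIntegral f]
    {L : P.Modules} (hL : PicF.IsInvertible L) :
    IsClosed {z : S | Triv ((Scheme.Modules.pullback (f.fiberι z)).obj L)} := by
  obtain ⟨N, hN, ⟨e⟩⟩ := AmpleEmb.exists_isInverseOf hL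
  have hNt : ∀ z, Triv ((Scheme.Modules.pullback (f.fiberι z)).obj L) →
      Triv ((Scheme.Modules.pullback (f.fiberι z)).obj N) := fun z hz => by
    obtain ⟨i⟩ := triv_iff.1 hz
    let g := f.fiberι z
    exact triv_iff.2 ⟨(unitL _).symm ≪≫ tIso i.symm (Iso.refl _) ≪≫ (pullTensor g L N).symm ≪≫
      (Scheme.Modules.pullback g).mapIso e ≪≫ pullO g⟩
  have heq : {z : S | Triv ((Scheme.Modules.pullback (f.fiberι z)).obj L)} =
      {z | 0 < CohIII.fiberRank f L 0 z} ∩ {z | 0 < CohIII.fiberRank f N 0 z} := by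
    ext z
    exact ⟨fun hz => ⟨Nat.one_pos.trans_eq (fiberRank_eq_one_of_triv f z (AVLib.bijective_fiber f z) hz).symm,
      Nat.one_pos.trans_eq (fiberRank_eq_one_of_triv f z (AVLib.bijective_fiber f z) (hNt z hz)).symm⟩,
      fun h => triv_fiber_of_fiberRank_pos f hL hN e z h.1 h.2⟩
  rw [heq]
  exact (isClosed_fiberRank_pos f hL).inter (isClosed_fiberRank_pos f hN)

variable (x : S ⟶ X) (hx : x ≫ fX = 𝟙 S) (y : S ⟶ Y) (hy : y ≫ fY = 𝟙 S)
  (σ : Y ⟶ pullback fX fY) (hσ₁ : σ ≫ pullback.fst fX fY = fY ≫ x) (hσ₂ : σ ≫ pullback.snd fX fY = 𝟙 Y)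
  (τ : X ⟶ pullback fX fY) (hτ₁ : τ ≫ pullback.fst fX fY = 𝟙 X) (hτ₂ : τ ≫ pullback.snd fX fY = fX ≫ y)
  {L : (pullback fX fY).Modules} (hL : PicF.IsInvertible L)
  (hσ : Triv ((Scheme.Modules.pullback σ).obj L)) (hτ : Triv ((Scheme.Modules.pullback τ).obj L))

include hx hy hσ₁ hσ₂ hτ₁ hτ₂ hL hσ hτ

/-- Near a point with trivial fibre the module is trivial over the base. -/
theorem exists_gen_nhd {z : S}
    (hz : Triv ((Scheme.Modules.pullback ((pullback.fst fX fY ≫ fX).fiberι z)).obj L)) :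
    ∃ U : S.Opens, z ∈ U ∧ ∃ s : Γ(L, (pullback.fst fX fY ≫ fX) ⁻¹ᵁ U), Gen ((pullback.fst fX fY ≫ fX) ⁻¹ᵁ U) s := by
  obtain ⟨_, ⟨W : S.Opens, hW, rfl⟩, hzW, -⟩ := S.isBasis_affineOpens.exists_subset_of_mem_open (Set.mem_univ z) isOpen_univ
  have hW : IsAffineOpen W := hW
  obtain ⟨q₀, rfl⟩ : ∃ q, hW.fromSpec q = z := ⟨_, hW.fromSpec_primeIdealOf ⟨z, hzW⟩⟩
  obtain ⟨M, hM, hle⟩ := Ideal.exists_le_maximal q₀.asIdeal q₀.isPrime.ne_top
  let q : Spec Γ(S, W) := ⟨M, hM.isPrime⟩
  haveI : q.asIdeal.IsMaximal := hM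
  have hspec : hW.fromSpec q₀ ⤳ hW.fromSpec q :=
    ((PrimeSpectrum.le_iff_specializes q₀ q).1 hle).map hW.fromSpec.continuous
  obtain ⟨U, hqU, hU⟩ := exists_gen_nhd_of_maximal fX fY hW q x hx y hy σ hσ₁ hσ₂ τ hτ₁ hτ₂ hL hσ hτ
    (hspec.mem_closed (isClosed_setOf_triv _ hL) hz)
  exact ⟨U, hspec.mem_open U.2 hqU, hU⟩

/-- The set of points with trivial fibre is open and closed. -/
theorem isClopen_setOf_triv :
    IsClopen {z : S | Triv ((Scheme.Modules.pullback ((pullback.fst fX fY ≫ fX).fiberι z)).obj L)} := by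
  refine ⟨isClosed_setOf_triv _ hL, isOpen_iff_forall_mem_open.2 fun z hz => ?_⟩
  obtain ⟨U, hzU, s, hs⟩ := exists_gen_nhd fX fY x hx y hy σ hσ₁ hσ₂ τ hτ₁ hτ₂ hL hσ hτ hz
  refine ⟨U, fun w hw => ?_, U.2, hzU⟩
  let f := pullback.fst fX fY ≫ fX
  refine ⟨_, gen_pullMap (f.fiberι w) hL hs (show ⊤ ≤ (f.fiberι w) ⁻¹ᵁ (f ⁻¹ᵁ U) from fun v _ => ?_)⟩
  show f (f.fiberι w v) ∈ U
  have h1 : f.fiberι w v ∈ Set.range (f.fiberι w) := ⟨v, rfl⟩
  rw [f.range_fiberι w] at h1
  rw [show f (f.fiberι w v) = w from h1]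
  exact hw

/-- The theorem of the cube over a base. -/
theorem triv_of_forall_fibre
    (hall : ∀ z : S, Triv ((Scheme.Modules.pullback ((pullback.fst fX fY ≫ fX).fiberι z)).obj L)) : Triv L := by
  let f := pullback.fst fX fY ≫ fX
  have hs : (x ≫ τ) ≫ f = 𝟙 S := by
    show (x ≫ τ) ≫ pullback.fst fX fY ≫ fX = _
    rw [Category.assoc, ← Category.assoc τ, hτ₁, Category.id_comp, hx]
  exact triv_of_section f (AVLib.bijective_fiber f) _ hs hL
    (fun z => exists_gen_nhd fX fY x hx y hy σ hσ₁ hσ₂ τ hτ₁ hτ₂ hL hσ hτ (hall z))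
    ((triv_pullback_comp_iff x τ rfl).1 (hτ.pullback x (isInvertible_pullback _ hL)))

/-- Over a connected base one trivial fibre suffices. -/
theorem triv_of_fibre [ConnectedSpace S] {z : S}
    (hz : Triv ((Scheme.Modules.pullback ((pullback.fst fX fY ≫ fX).fiberι z)).obj L)) : Triv L :=
  triv_of_forall_fibre fX fY x hx y hy σ hσ₁ hσ₂ τ hτ₁ hτ₂ hL hσ hτ fun w =>
    (Set.eq_univ_iff_forall.1
      ((isClopen_setOf_triv fX fY x hx y hy σ hσ₁ hσ₂ τ hτ₁ hτ₂ hL hσ hτ).eq_univ ⟨z, hz⟩)) w

end Groth.Agent.CubeBaseLib
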