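import Groth.Agent.AbDualLib.Prim

/-!
# The cube relation on an abelian scheme over a locally Noetherian base
-/

set_option autoImplicit false
set_option backward.isDefEq.respectTransparency false
set_option linter.style.haveILetI false

universe u

open CategoryTheory CategoryTheory.Limits MonoidalCategory CartesianMonoidalCategory MonObj AlgebraicGeometry
open Groth.Agent.PicLib
open Groth.Agent.AmpleLib (isInvertible_pullback)

noncomputable section

namespace Groth.Agent.CubeBaseLib

variable {S : Scheme.{u}} {X V : Over S}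

theorem pull_left_comp {W : Over S} (s : W ⟶ V) (g : V ⟶ X) (a : Pic X.left) :
    pull s.left (pull g.left a) = pull (s ≫ g).left a :=
  (pull_comp s.left g.left a).symm

variable [GrpObj X]

theorem pull_one_eq (a : Pic X.left) : pull (1 : V ⟶ X).left a = pull V.hom (pull η[X].left a) := by
  exact pull_comp V.hom η[X].left a

/-- The defect of the cube relation. -/
def cubeDfc (a : Pic X.left) (f g h : V ⟶ X) : Pic V.left :=
  (pull (f * g * h).left a * pull f.left a * pull g.left a * pull h.left a) /
    (pull (f * g).left a * pull (f * h).left a * pull (g * h).left a * pull (1 : V ⟶ X).left a)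

theorem pull_cubeDfc {W : Over S} (s : W ⟶ V) (a : Pic X.left) (f g h : V ⟶ X) :
    pull s.left (cubeDfc a f g h) = cubeDfc a (s ≫ f) (s ≫ g) (s ≫ h) := by
  simp only [cubeDfc, map_div, map_mul, pull_left_comp, MonObj.comp_mul, MonObj.comp_one]

theorem cubeDfc_one_left (a : Pic X.left) (g h : V ⟶ X) : cubeDfc a 1 g h = 1 := by
  simp only [cubeDfc, _root_.one_mul, div_eq_one]
  try ac_rfl

theorem cubeDfc_one_mid (a : Pic X.left) (f h : V ⟶ X) : cubeDfc a f 1 h = 1 := by
  simp only [cubeDfc, _root_.one_mul, _root_.mul_one, div_eq_one]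
  ac_rfl

theorem cubeDfc_one_right (a : Pic X.left) (f g : V ⟶ X) : cubeDfc a f g 1 = 1 := by
  simp only [cubeDfc, _root_.one_mul, _root_.mul_one, div_eq_one]

variable [IsLocallyNoetherian S] [IsProper X.hom] [Flat X.hom] [GeometricallyIntegral X.hom]

/-- The cube relation over a locally Noetherian base. -/
theorem cubeDfc_eq_one (a : Pic X.left) (f g h : V ⟶ X) : cubeDfc a f g h = 1 := by
  let φ := pullback.snd X.hom X.hom
  haveI : IsProper φ := MorphismProperty.pullback_snd _ _ inferInstance
  haveI : Flat φ := MorphismProperty.pullback_snd _ _ inferInstance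
  haveI : GeometricallyIntegral φ := MorphismProperty.pullback_snd _ _ inferInstance
  haveI : IsLocallyNoetherian X.left := LocallyOfFiniteType.isLocallyNoetherian X.hom
  let F : Over S := Over.mk (φ ≫ X.hom)
  let PO : Over S := Over.mk ((pullback.fst φ φ ≫ φ) ≫ X.hom)
  let pa : PO ⟶ X := Over.homMk (pullback.fst φ φ ≫ pullback.fst X.hom X.hom) (by
    show (pullback.fst φ φ ≫ pullback.fst X.hom X.hom) ≫ X.hom = (pullback.fst φ φ ≫ φ) ≫ X.hom
    rw [Category.assoc, pullback.condition, Category.assoc])
  let pb : PO ⟶ X := Over.homMk (pullback.snd φ φ ≫ pullback.fst X.hom X.hom) (by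
    show (pullback.snd φ φ ≫ pullback.fst X.hom X.hom) ≫ X.hom = (pullback.fst φ φ ≫ φ) ≫ X.hom
    rw [Category.assoc, pullback.condition, pullback.condition (f := φ) (g := φ), Category.assoc])
  let pc : PO ⟶ X := Over.homMk (pullback.fst φ φ ≫ φ) rfl
  have hΘ : cubeDfc a pa pb pc = 1 := by
    let e := η[X].left
    have he : e ≫ X.hom = 𝟙 S := Over.w η[X]
    let x : X.left ⟶ pullback X.hom X.hom := pullback.lift (X.hom ≫ e) (𝟙 _) (by
      rw [Category.assoc, he, Category.comp_id, Category.id_comp])
    have hx : x ≫ φ = 𝟙 _ := pullback.lift_snd _ _ _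
    let σ : pullback X.hom X.hom ⟶ pullback φ φ := pullback.lift (φ ≫ x) (𝟙 _) (by
      rw [Category.assoc, hx, Category.comp_id, Category.id_comp])
    let τ : pullback X.hom X.hom ⟶ pullback φ φ := pullback.lift (𝟙 _) (φ ≫ x) (by
      rw [Category.assoc, hx, Category.comp_id, Category.id_comp])
    have h1F : (1 : F ⟶ X).left = φ ≫ x ≫ pullback.fst X.hom X.hom := by
      rw [pullback.lift_fst, Hom.one_def, Over.comp_left, ← Category.assoc]; rfl
    let sO : F ⟶ PO := Over.homMk σ (by
      show σ ≫ (pullback.fst φ φ ≫ φ) ≫ X.hom = φ ≫ X.hom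
      rw [← Category.assoc, ← Category.assoc, pullback.lift_fst, Category.assoc φ, hx, Category.comp_id])
    let tO : F ⟶ PO := Over.homMk τ (by
      show τ ≫ (pullback.fst φ φ ≫ φ) ≫ X.hom = φ ≫ X.hom
      rw [← Category.assoc, ← Category.assoc, pullback.lift_fst, Category.id_comp])
    have hsa : sO ≫ pa = 1 := Over.OverMorphism.ext (by
      rw [h1F]
      show σ ≫ pullback.fst φ φ ≫ pullback.fst X.hom X.hom = _
      rw [← Category.assoc, pullback.lift_fst, Category.assoc])
    have htb : tO ≫ pb = 1 := Over.OverMorphism.ext (by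
      rw [h1F]
      show τ ≫ pullback.snd φ φ ≫ pullback.fst X.hom X.hom = _
      rw [← Category.assoc, pullback.lift_snd, Category.assoc])
    obtain ⟨L, hL, hLc⟩ := exists_cls (cubeDfc a pa pb pc)
    have triv : ∀ {W : Over S} (s : W ⟶ PO), cubeDfc a (s ≫ pa) (s ≫ pb) (s ≫ pc) = 1 →
        CubeLib.Triv ((Scheme.Modules.pullback s.left).obj L) := fun {W} s hs => by
      rw [← pull_cubeDfc, ← hLc, pull_cls, AbDualLib.eq_one_iff_triv] at hs
      exact hs
    have hσ : CubeLib.Triv ((Scheme.Modules.pullback σ).obj L) :=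
      triv sO (by rw [hsa]; exact cubeDfc_one_left _ _ _)
    have hτ : CubeLib.Triv ((Scheme.Modules.pullback τ).obj L) :=
      triv tO (by rw [htb]; exact cubeDfc_one_mid _ _ _)
    let π := pullback.fst φ φ ≫ φ
    have hclopen := isClopen_setOf_triv φ φ x hx x hx σ (pullback.lift_fst _ _ _) (pullback.lift_snd _ _ _) τ
      (pullback.lift_fst _ _ _) (pullback.lift_snd _ _ _) hL hσ hτ
    have hsec : ∀ s : S, CubeLib.Triv ((Scheme.Modules.pullback (π.fiberι (e s))).obj L) := fun s => by
      let W : Over S := Over.mk (π.fiberι (e s) ≫ PO.hom)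
      let i : W ⟶ PO := Over.homMk (π.fiberι (e s)) rfl
      refine triv i ?_
      have hi : i ≫ pc = 1 := Over.OverMorphism.ext (by
        rw [Hom.one_def, Over.comp_left]
        show π.fiberι (e s) ≫ π = (π.fiberι (e s) ≫ π ≫ X.hom) ≫ e
        rw [Category.assoc, Category.assoc, show π.fiberι (e s) ≫ π =
          π.fiberToSpecResidueField (e s) ≫ X.left.fromSpecResidueField (e s) from pullback.condition,
          reassoc_of% (show π.fiberι (e s) ≫ π =
          π.fiberToSpecResidueField (e s) ≫ X.left.fromSpecResidueField (e s) from pullback.condition),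
          AbDualLib.fromSpecResidueField_section e X.hom he s])
      rw [hi]; exact cubeDfc_one_right _ _ _
    rw [← hLc, AbDualLib.eq_one_iff_triv]
    refine triv_of_forall_fibre φ φ x hx x hx σ (pullback.lift_fst _ _ _) (pullback.lift_snd _ _ _) τ
      (pullback.lift_fst _ _ _) (pullback.lift_snd _ _ _) hL hσ hτ fun z => ?_
    haveI : GeometricallyConnected X.hom := ⟨fun K _ y Z fst snd hh => by
      haveI : IrreducibleSpace Z := GeometricallyIrreducible.geometrically_irreducibleSpace y fst snd hh
      infer_instance⟩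
    let s := X.hom z
    have hz : z ∈ Set.range (X.hom.fiberι s) := by rw [X.hom.range_fiberι s]; rfl
    have hes : e s ∈ Set.range (X.hom.fiberι s) := by
      rw [X.hom.range_fiberι s]
      show X.hom (e s) = s
      rw [← Scheme.Hom.comp_apply, he]; rfl
    obtain ⟨z', hz'⟩ := hz
    obtain ⟨w', hw'⟩ := hes
    haveI : ConnectedSpace ↥(X.hom.fiber s) := inferInstance
    have hc := (hclopen.preimage (X.hom.fiberι s).continuous).eq_univ ⟨w', by
      show CubeLib.Triv ((Scheme.Modules.pullback (π.fiberι (X.hom.fiberι s w'))).obj L)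
      rw [hw']; exact hsec s⟩
    have := Set.eq_univ_iff_forall.1 hc z'
    simp only [Set.mem_preimage, Set.mem_setOf_eq] at this
    rwa [hz'] at this
  let u₁ : V.left ⟶ pullback X.hom X.hom := pullback.lift f.left h.left ((Over.w f).trans (Over.w h).symm)
  let u₂ : V.left ⟶ pullback X.hom X.hom := pullback.lift g.left h.left ((Over.w g).trans (Over.w h).symm)
  let s : V ⟶ PO := Over.homMk (pullback.lift u₁ u₂ (by
      show u₁ ≫ pullback.snd _ _ = u₂ ≫ pullback.snd _ _
      rw [pullback.lift_snd, pullback.lift_snd])) (by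
    show pullback.lift u₁ u₂ _ ≫ (pullback.fst φ φ ≫ φ) ≫ X.hom = V.hom
    rw [← Category.assoc, ← Category.assoc, pullback.lift_fst, pullback.lift_snd, Over.w h])
  have h1 : s ≫ pa = f := Over.OverMorphism.ext (by
    show pullback.lift u₁ u₂ _ ≫ pullback.fst φ φ ≫ pullback.fst X.hom X.hom = f.left
    rw [← Category.assoc, pullback.lift_fst, pullback.lift_fst])
  have h2 : s ≫ pb = g := Over.OverMorphism.ext (by
    show pullback.lift u₁ u₂ _ ≫ pullback.snd φ φ ≫ pullback.fst X.hom X.hom = g.left
    rw [← Category.assoc, pullback.lift_snd, pullback.lift_fst])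
  have h3 : s ≫ pc = h := Over.OverMorphism.ext (by
    show pullback.lift u₁ u₂ _ ≫ pullback.fst φ φ ≫ φ = h.left
    rw [← Category.assoc, pullback.lift_fst, pullback.lift_snd])
  rw [← h1, ← h2, ← h3, ← pull_cubeDfc, hΘ, map_one]

theorem cube (a : Pic X.left) (f g h : V ⟶ X) :
    pull (f * g * h).left a * pull f.left a * pull g.left a * pull h.left a =
      pull (f * g).left a * pull (f * h).left a * pull (g * h).left a * pull (1 : V ⟶ X).left a :=
  div_eq_one.1 (cubeDfc_eq_one a f g h)

/-- Inverse image along a power. -/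
theorem pow_pull (a : Pic X.left) : ∀ n : ℕ, pull (𝟙 X ^ n).left a * pull (1 : X ⟶ X).left a ^ (n ^ 2) =
      a ^ (n + 1).choose 2 * pull ((𝟙 X)⁻¹).left a ^ n.choose 2 * pull (1 : X ⟶ X).left a
  | 0 => by simp
  | 1 => by simp [pull_id]
  | n + 2 => by
    have hs : ∀ m : ℕ, (m + 1).choose 2 = m + m.choose 2 := fun m => by
      rw [Nat.choose_succ_succ' m 1, Nat.choose_one_right]
    have h1 := pow_pull a n
    have h2 := pow_pull a (n + 1)
    have hc := cube a (𝟙 X ^ (n + 1)) (𝟙 X) (𝟙 X)⁻¹
    have e1 : 𝟙 X ^ (n + 1) * 𝟙 X * (𝟙 X)⁻¹ = 𝟙 X ^ (n + 1) := mul_inv_cancel_right _ _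
    have e2 : 𝟙 X ^ (n + 1) * 𝟙 X = 𝟙 X ^ (n + 2) := (pow_succ _ _).symm
    have e3 : 𝟙 X ^ (n + 1) * (𝟙 X)⁻¹ = 𝟙 X ^ n := by rw [pow_succ, mul_inv_cancel_right]
    rw [e1, e2, e3, mul_inv_cancel, show pull (𝟙 X : X ⟶ X).left a = a from pull_id a] at hc
    simp only [hs] at h1 h2 ⊢
    apply Additive.ofMul.injective
    have hc' := congrArg Additive.ofMul hc
    have h1' := congrArg Additive.ofMul h1
    have h2' := congrArg Additive.ofMul h2
    simp only [ofMul_mul, ofMul_pow] at hc' h1' h2' ⊢
    linear_combination (norm := module) (2 : ℤ) • h2' - h1' - hc'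

end Groth.Agent.CubeBaseLib
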